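import Cfsg.Agent.Lib.SmallGroups.Local

/-!
# Elements of prime order with a small Sylow subgroup, inside a subgroup
-/

set_option autoImplicit false

open Subgroup MulAction
open scoped Pointwise

namespace Cfsg.Agent.M12Ord86

variable {G : Type*} [Group G] [Finite G] {p : ℕ} [hp : Fact p.Prime]

theorem exists_sylow_zpowers (hp2 : ¬ p ^ 2 ∣ Nat.card G) {u : G} (hu : orderOf u = p) :
    ∃ P : Sylow p G, (P : Subgroup G) = zpowers u := by
  have h1 : p ∣ Nat.card G := hu ▸ orderOf_dvd_natCard u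
  have h0 : Nat.card G ≠ 0 := Nat.card_pos.ne'
  have hf : (Nat.card G).factorization p = 1 := by
    have a := (hp.out.dvd_iff_one_le_factorization h0).mp h1
    have b : (Nat.card G).factorization p < 2 := by
      by_contra h
      exact hp2 ((hp.out.pow_dvd_iff_le_factorization h0).mpr (not_lt.mp h))
    omega
  exact ⟨Sylow.ofCard (zpowers u) (by rw [Nat.card_zpowers, hu, hf, pow_one]), rfl⟩

/-- A subgroup through `u` has order `|N(u) ∩ H|` times a number congruent to 1. -/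
theorem card_eq_normalizer_inf_mul (hp2 : ¬ p ^ 2 ∣ Nat.card G) {u : G} (hu : orderOf u = p)
    {H : Subgroup G} (huH : u ∈ H) :
    ∃ n : ℕ, Nat.card H =
        Nat.card ↥(Subgroup.normalizer (zpowers u : Set G) ⊓ H) * n ∧
      n ≡ 1 [MOD p] := by
  obtain ⟨P, hP⟩ := exists_sylow_zpowers hp2 hu
  refine ⟨((Subgroup.normalizer ((P : Subgroup G) : Set G)).subgroupOf H).index, ?_,
    SmallGroups.index_normalizer_subgroupOf_modEq P (hP ▸ zpowers_le.mpr huH)⟩
  rw [← card_mul_index ((Subgroup.normalizer ((P : Subgroup G) : Set G)).subgroupOf H), hP,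
    ← inf_subgroupOf_right]
  congr 1
  exact Nat.card_congr (subgroupOfEquivOfLe inf_le_right).toEquiv

/-- Control of fusion: if `x⁻¹ u x ∈ H`, then `x` lies in `N(u) H`. -/
theorem exists_mul_mem_normalizer (hp2 : ¬ p ^ 2 ∣ Nat.card G) {u : G} (hu : orderOf u = p)
    {H : Subgroup G} (huH : u ∈ H) {x : G} (hx : x⁻¹ * u * x ∈ H) :
    ∃ h ∈ H, x * h ∈ Subgroup.normalizer (zpowers u : Set G) := by
  have hH2 : ¬ p ^ 2 ∣ Nat.card H := fun h => hp2 (h.trans H.card_subgroup_dvd_card)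
  set v := x⁻¹ * u * x with hv
  have hov : orderOf v = p := by
    rw [hv, show x⁻¹ * u * x = MulAut.conj x⁻¹ u by simp, MulEquiv.orderOf_eq, hu]
  obtain ⟨P, hP⟩ := exists_sylow_zpowers hH2 (u := (⟨u, huH⟩ : H)) (by simpa using hu)
  obtain ⟨Q, hQ⟩ := exists_sylow_zpowers hH2 (u := (⟨v, hx⟩ : H)) (by simpa using hov)
  obtain ⟨h, hh⟩ := MulAction.exists_smul_eq H Q P
  refine ⟨(h : G)⁻¹, H.inv_mem h.2, ?_⟩
  have hmem : h * ⟨v, hx⟩ * h⁻¹ ∈ zpowers (⟨u, huH⟩ : H) := by
    rw [← hP, ← hh, Sylow.coe_subgroup_smul, hQ, Subgroup.mem_pointwise_smul_iff_inv_smul_mem]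
    convert mem_zpowers (⟨v, hx⟩ : H) using 1
    simp [MulAut.smul_def, MulAut.conj_symm_apply, mul_assoc]
  obtain ⟨k, hk⟩ := mem_zpowers_iff.mp hmem
  have hk' : u ^ k = (h : G) * x⁻¹ * u * ((h : G) * x⁻¹)⁻¹ := by
    have := congrArg (Subtype.val) hk
    simp only [SubgroupClass.coe_zpow, Subgroup.coe_mul, InvMemClass.coe_inv, hv] at this
    rw [this]; group
  set y := (h : G) * x⁻¹ with hy
  have hle : (zpowers u).map (MulAut.conj y).toMonoidHom = zpowers u := by
    rw [MonoidHom.map_zpowers]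
    refine Subgroup.eq_of_le_of_card_ge (zpowers_le.mpr ⟨k, ?_⟩) (le_of_eq ?_)
    · simpa using hk'
    · rw [Nat.card_zpowers, Nat.card_zpowers]
      exact (MulEquiv.orderOf_eq (MulAut.conj y) u).symm
  have hyN : y ∈ Subgroup.normalizer (zpowers u : Set G) := by
    rw [Subgroup.mem_normalizer_iff]
    intro g
    conv_rhs => rw [← hle]
    refine ⟨fun hg => ⟨g, hg, by simp⟩, fun ⟨g', hg', e⟩ => ?_⟩
    obtain rfl : g' = g := by simpa using e
    exact hg'
  have : x * (h : G)⁻¹ = y⁻¹ := by rw [hy]; group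
  rw [this]
  exact inv_mem hyN

end Cfsg.Agent.M12Ord86
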