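import Mathlib

/-!
# Arithmetic for the subgroup of order 660

`A`, `B`, `C` are 11 times a spherical value on a suborbit of 11 points; `P`, `Q` are the
eigenvalues on the larger suborbits (`m` times 11 points, value `P / (11 * m)`).
-/

set_option autoImplicit false

namespace Cfsg.Agent.M12Ord86

private theorem box {A : ℤ} (n : ℕ) (h : A ^ 2 < ((n : ℤ) + 1) ^ 2) :
    ∃ i : Fin (2 * n + 1), A = (i : ℕ) - (n : ℤ) := by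
  have h1 := abs_lt_of_sq_lt_sq' h (by positivity)
  exact ⟨⟨(A + n).toNat, by omega⟩, by show A = ((A + n).toNat : ℤ) - n; omega⟩

private theorem box11 {A : ℤ} (h : A ^ 2 < 121) : ∃ i : Fin 21, A = (i : ℕ) - (10 : ℤ) :=
  box 10 (by push_cast; linarith)

private theorem check112 : ∀ i : Fin 21, let A : ℤ := (i : ℕ) - 10
    13 * A ^ 2 + 2 * A - 1595 ≠ 0 := by
  decide +kernel

/-- Suborbits 11 + 132. -/
theorem pattern_1_12 {A Q : ℤ} (hA : A ^ 2 < 121) (h1 : A + Q = -1)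
    (h2 : 12 * A ^ 2 + Q ^ 2 = 1596) : False := by
  obtain ⟨i, rfl⟩ := box11 hA
  refine check112 i ?_
  obtain rfl : Q = -1 - ((i : ℕ) - (10 : ℤ)) := by omega
  linear_combination h2

private theorem check166 : ∀ i : Fin 21, ∀ j : Fin 57, let A : ℤ := (i : ℕ) - 10
    let P : ℤ := (j : ℕ) - 28; let Q : ℤ := -1 - A - P
    (A ^ 2 - 11 = 10 * A ∨ 3 * (A ^ 2 - 11) = 5 * P ∨ 3 * (A ^ 2 - 11) = 5 * Q) →
      6 * A ^ 2 + P ^ 2 + Q ^ 2 ≠ 798 := by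
  decide +kernel

/-- Suborbits 11 + 66 + 66. -/
theorem pattern_1_6_6 {A P Q : ℤ} (hA : A ^ 2 < 121) (h1 : A + P + Q = -1)
    (h2 : 6 * A ^ 2 + P ^ 2 + Q ^ 2 = 798)
    (hc : A ^ 2 - 11 = 10 * A ∨ 3 * (A ^ 2 - 11) = 5 * P ∨ 3 * (A ^ 2 - 11) = 5 * Q) : False := by
  obtain ⟨i, rfl⟩ := box11 hA
  obtain ⟨j, rfl⟩ := box (A := P) 28 (by
    have := sq_nonneg Q
    have := sq_nonneg ((i : ℕ) - (10 : ℤ))
    push_cast; linarith)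
  obtain rfl : Q = -1 - ((i : ℕ) - (10 : ℤ)) - ((j : ℕ) - ((28 : ℕ) : ℤ)) := by omega
  exact check166 i j hc h2

private theorem check1156 : ∀ i k : Fin 21, ∀ j : Fin 59, let A : ℤ := (i : ℕ) - 10
    let B : ℤ := (k : ℕ) - 10; let P : ℤ := (j : ℕ) - 29; let Q : ℤ := -1 - A - B - P
    (A ^ 2 - 11 = 10 * A ∨ A ^ 2 - 11 = 10 * B ∨ A ^ 2 - 11 = 2 * Q ∨
        3 * (A ^ 2 - 11) = 5 * P) →
      (B ^ 2 - 11 = 10 * A ∨ B ^ 2 - 11 = 10 * B ∨ B ^ 2 - 11 = 2 * Q ∨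
        3 * (B ^ 2 - 11) = 5 * P) →
      30 * A ^ 2 + 30 * B ^ 2 + 6 * Q ^ 2 + 5 * P ^ 2 ≠ 3990 := by
  decide +kernel

/-- Suborbits 11 + 11 + 55 + 66. -/
theorem pattern_1_1_5_6 {A B Q P : ℤ} (hA : A ^ 2 < 121) (hB : B ^ 2 < 121)
    (h1 : A + B + Q + P = -1)
    (h2 : 30 * A ^ 2 + 30 * B ^ 2 + 6 * Q ^ 2 + 5 * P ^ 2 = 3990)
    (hcA : A ^ 2 - 11 = 10 * A ∨ A ^ 2 - 11 = 10 * B ∨ A ^ 2 - 11 = 2 * Q ∨
      3 * (A ^ 2 - 11) = 5 * P)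
    (hcB : B ^ 2 - 11 = 10 * A ∨ B ^ 2 - 11 = 10 * B ∨ B ^ 2 - 11 = 2 * Q ∨
      3 * (B ^ 2 - 11) = 5 * P) : False := by
  obtain ⟨i, rfl⟩ := box11 hA
  obtain ⟨k, rfl⟩ := box11 hB
  obtain ⟨j, rfl⟩ := box (A := P) 29 (by
    have := sq_nonneg Q
    have := sq_nonneg ((i : ℕ) - (10 : ℤ))
    have := sq_nonneg ((k : ℕ) - (10 : ℤ))
    push_cast; linarith)
  obtain rfl : Q = -1 - ((i : ℕ) - (10 : ℤ)) - ((k : ℕ) - (10 : ℤ)) -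
      ((j : ℕ) - ((29 : ℕ) : ℤ)) := by omega
  exact check1156 i k j hcA hcB h2

private theorem check11110 : ∀ i j k : Fin 21, let A : ℤ := (i : ℕ) - 10
    let B : ℤ := (j : ℕ) - 10; let C : ℤ := (k : ℕ) - 10; let Q : ℤ := -1 - A - B - C
    (A ^ 2 - 11 = 10 * A ∨ A ^ 2 - 11 = 10 * B ∨ A ^ 2 - 11 = 10 * C ∨ A ^ 2 - 11 = Q) →
      (B ^ 2 - 11 = 10 * A ∨ B ^ 2 - 11 = 10 * B ∨ B ^ 2 - 11 = 10 * C ∨ B ^ 2 - 11 = Q) →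
        (C ^ 2 - 11 = 10 * A ∨ C ^ 2 - 11 = 10 * B ∨ C ^ 2 - 11 = 10 * C ∨ C ^ 2 - 11 = Q) →
          10 * (A ^ 2 + B ^ 2 + C ^ 2) + Q ^ 2 ≠ 1330 := by
  decide +kernel

/-- Suborbits 11 + 11 + 11 + 110. -/
theorem pattern_1_1_1_10 {A B C Q : ℤ} (hA : A ^ 2 < 121) (hB : B ^ 2 < 121) (hC : C ^ 2 < 121)
    (h1 : A + B + C + Q = -1) (h2 : 10 * (A ^ 2 + B ^ 2 + C ^ 2) + Q ^ 2 = 1330)
    (hcA : A ^ 2 - 11 = 10 * A ∨ A ^ 2 - 11 = 10 * B ∨ A ^ 2 - 11 = 10 * C ∨ A ^ 2 - 11 = Q)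
    (hcB : B ^ 2 - 11 = 10 * A ∨ B ^ 2 - 11 = 10 * B ∨ B ^ 2 - 11 = 10 * C ∨ B ^ 2 - 11 = Q)
    (hcC : C ^ 2 - 11 = 10 * A ∨ C ^ 2 - 11 = 10 * B ∨ C ^ 2 - 11 = 10 * C ∨ C ^ 2 - 11 = Q) :
    False := by
  obtain ⟨i, rfl⟩ := box11 hA
  obtain ⟨j, rfl⟩ := box11 hB
  obtain ⟨k, rfl⟩ := box11 hC
  obtain rfl : Q = -1 - ((i : ℕ) - (10 : ℤ)) - ((j : ℕ) - (10 : ℤ)) - ((k : ℕ) - (10 : ℤ)) := by
    omega
  exact check11110 i j k hcA hcB hcC h2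

/-- Membership in the list of ten times the values. -/
private abbrev T5 (A B C P Q x : ℤ) : Prop :=
  x = 10 * A ∨ x = 10 * B ∨ x = 10 * C ∨ x = 2 * P ∨ x = 2 * Q

private theorem check11155 : ∀ i j k : Fin 21, let A : ℤ := (i : ℕ) - 10
    let B : ℤ := (j : ℕ) - 10; let C : ℤ := (k : ℕ) - 10
    let P : ℤ := (A ^ 2 - 11) / 2; let Q : ℤ := -1 - A - B - C - P
    ¬ 2 * P = A ^ 2 - 11 ∨ 5 * (A ^ 2 + B ^ 2 + C ^ 2) + P ^ 2 + Q ^ 2 ≠ 665 ∨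
      ¬ T5 A B C P Q (A ^ 2 - 11) ∨ ¬ T5 A B C P Q (B ^ 2 - 11) ∨
        ¬ T5 A B C P Q (C ^ 2 - 11) ∨ (A ^ 2 ≤ 1 ∧ B ^ 2 ≤ 1 ∧ C ^ 2 ≤ 1) := by
  decide +kernel

private theorem swapPQ {A B C P Q x : ℤ} (h : T5 A B C P Q x) : T5 A B C Q P x := by
  rcases h with h | h | h | h | h <;> simp [T5, h]

private theorem swapAB {A B C P Q x : ℤ} (h : T5 A B C P Q x) : T5 B A C P Q x := by
  rcases h with h | h | h | h | h <;> simp [T5, h]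

private theorem swapAC {A B C P Q x : ℤ} (h : T5 A B C P Q x) : T5 C B A P Q x := by
  rcases h with h | h | h | h | h <;> simp [T5, h]

private theorem keep3 {A B C P Q x : ℤ} (h : T5 A B C P Q x) (hP : x ≠ 2 * P) (hQ : x ≠ 2 * Q) :
    x = 10 * A ∨ x = 10 * B ∨ x = 10 * C := by
  rcases h with h | h | h | h | h
  exacts [Or.inl h, Or.inr (Or.inl h), Or.inr (Or.inr h), absurd h hP, absurd h hQ]

private theorem aux11155 {A B C P Q : ℤ} (hA : A ^ 2 < 121) (hB : B ^ 2 < 121)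
    (hC : C ^ 2 < 121) (h1 : A + B + C + P + Q = -1)
    (h2 : 5 * (A ^ 2 + B ^ 2 + C ^ 2) + P ^ 2 + Q ^ 2 = 665) (hP : A ^ 2 - 11 = 2 * P)
    (hcA : T5 A B C P Q (A ^ 2 - 11)) (hcB : T5 A B C P Q (B ^ 2 - 11))
    (hcC : T5 A B C P Q (C ^ 2 - 11)) : A ^ 2 ≤ 1 ∧ B ^ 2 ≤ 1 ∧ C ^ 2 ≤ 1 := by
  obtain ⟨i, rfl⟩ := box11 hA
  obtain ⟨j, rfl⟩ := box11 hB
  obtain ⟨k, rfl⟩ := box11 hC
  obtain rfl : P = ((((i : ℕ) : ℤ) - 10) ^ 2 - 11) / 2 := by omega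
  obtain rfl : Q = -1 - ((i : ℕ) - (10 : ℤ)) - ((j : ℕ) - (10 : ℤ)) - ((k : ℕ) - (10 : ℤ)) -
      ((((i : ℕ) : ℤ) - 10) ^ 2 - 11) / 2 := by omega
  rcases check11155 i j k with h | h | h | h | h | h
  · exact absurd hP.symm h
  · exact absurd h2 h
  · exact absurd hcA h
  · exact absurd hcB h
  · exact absurd hcC h
  · exact h

private theorem check111 : ∀ i j k : Fin 21, let A : ℤ := (i : ℕ) - 10
    let B : ℤ := (j : ℕ) - 10; let C : ℤ := (k : ℕ) - 10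
    (A ^ 2 - 11 = 10 * A ∨ A ^ 2 - 11 = 10 * B ∨ A ^ 2 - 11 = 10 * C) →
      (B ^ 2 - 11 = 10 * A ∨ B ^ 2 - 11 = 10 * B ∨ B ^ 2 - 11 = 10 * C) →
        (C ^ 2 - 11 = 10 * A ∨ C ^ 2 - 11 = 10 * B ∨ C ^ 2 - 11 = 10 * C) →
          A ^ 2 ≤ 1 ∧ B ^ 2 ≤ 1 ∧ C ^ 2 ≤ 1 := by
  decide +kernel

/-- Suborbits 11 + 11 + 11 + 55 + 55: the three small values are at most `1 / 11`. -/
theorem pattern_1_1_1_5_5 {A B C P Q : ℤ} (hA : A ^ 2 < 121) (hB : B ^ 2 < 121)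
    (hC : C ^ 2 < 121) (h1 : A + B + C + P + Q = -1)
    (h2 : 5 * (A ^ 2 + B ^ 2 + C ^ 2) + P ^ 2 + Q ^ 2 = 665)
    (hcA : A ^ 2 - 11 = 10 * A ∨ A ^ 2 - 11 = 10 * B ∨ A ^ 2 - 11 = 10 * C ∨
      A ^ 2 - 11 = 2 * P ∨ A ^ 2 - 11 = 2 * Q)
    (hcB : B ^ 2 - 11 = 10 * A ∨ B ^ 2 - 11 = 10 * B ∨ B ^ 2 - 11 = 10 * C ∨
      B ^ 2 - 11 = 2 * P ∨ B ^ 2 - 11 = 2 * Q)
    (hcC : C ^ 2 - 11 = 10 * A ∨ C ^ 2 - 11 = 10 * B ∨ C ^ 2 - 11 = 10 * C ∨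
      C ^ 2 - 11 = 2 * P ∨ C ^ 2 - 11 = 2 * Q) :
    A ^ 2 ≤ 1 ∧ B ^ 2 ≤ 1 ∧ C ^ 2 ≤ 1 := by
  by_cases h1' : A ^ 2 - 11 = 2 * P
  · exact aux11155 hA hB hC h1 h2 h1' hcA hcB hcC
  by_cases h2' : A ^ 2 - 11 = 2 * Q
  · exact aux11155 hA hB hC (P := Q) (Q := P) (by linarith) (by linarith) h2'
      (swapPQ hcA) (swapPQ hcB) (swapPQ hcC)
  by_cases h3' : B ^ 2 - 11 = 2 * P
  · obtain ⟨r, r', r''⟩ := aux11155 (A := B) (B := A) hB hA hC (by linarith) (by linarith) h3'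
      (swapAB hcB) (swapAB hcA) (swapAB hcC)
    exact ⟨r', r, r''⟩
  by_cases h4' : B ^ 2 - 11 = 2 * Q
  · obtain ⟨r, r', r''⟩ := aux11155 (A := B) (B := A) (P := Q) (Q := P) hB hA hC (by linarith)
      (by linarith) h4'
      (swapPQ (swapAB hcB)) (swapPQ (swapAB hcA)) (swapPQ (swapAB hcC))
    exact ⟨r', r, r''⟩
  by_cases h5' : C ^ 2 - 11 = 2 * P
  · obtain ⟨r, r', r''⟩ := aux11155 (A := C) (C := A) hC hB hA (by linarith) (by linarith) h5'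
      (swapAC hcC) (swapAC hcB) (swapAC hcA)
    exact ⟨r'', r', r⟩
  by_cases h6' : C ^ 2 - 11 = 2 * Q
  · obtain ⟨r, r', r''⟩ := aux11155 (A := C) (C := A) (P := Q) (Q := P) hC hB hA (by linarith)
      (by linarith) h6'
      (swapPQ (swapAC hcC)) (swapPQ (swapAC hcB)) (swapPQ (swapAC hcA))
    exact ⟨r'', r', r⟩
  have hA' : A ^ 2 - 11 = 10 * A ∨ A ^ 2 - 11 = 10 * B ∨ A ^ 2 - 11 = 10 * C :=
    keep3 hcA h1' h2'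
  have hB' : B ^ 2 - 11 = 10 * A ∨ B ^ 2 - 11 = 10 * B ∨ B ^ 2 - 11 = 10 * C :=
    keep3 hcB h3' h4'
  have hC' : C ^ 2 - 11 = 10 * A ∨ C ^ 2 - 11 = 10 * B ∨ C ^ 2 - 11 = 10 * C :=
    keep3 hcC h5' h6'
  obtain ⟨i, rfl⟩ := box11 hA
  obtain ⟨j, rfl⟩ := box11 hB
  obtain ⟨k, rfl⟩ := box11 hC
  exact check111 i j k hA' hB' hC'

end Cfsg.Agent.M12Ord86
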