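import Cfsg.Agent.M12Ord86.Local
import Cfsg.Agent.Recog71.OrderSixty

/-!
# The suborbits of a subgroup of order 660 in a group of order 95040
-/

set_option autoImplicit false
set_option linter.unusedSectionVars false

open Subgroup MulAction

namespace Cfsg.Agent.M12Ord86

variable {G : Type*} [Group G] [Finite G]

/-- The configuration to be refuted. -/
structure Sub660 (a b : G) (H : Subgroup G) : Prop where
  cardG : Nat.card G = 95040
  ha : orderOf a = 11
  hNa : Subgroup.normalizer (zpowers a : Set G) ≤ H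
  hb : orderOf b = 5
  hbH : b ∈ H
  cardNb : Nat.card (Subgroup.normalizer (zpowers b : Set G)) = 40
  cardH : Nat.card H = 660
  extra : ∃ x ∈ H, x ∈ Subgroup.normalizer (zpowers b : Set G) ∧ x ∉ zpowers b

/-- The cosets fixed by `b`. -/
def fixSet (b : G) (H : Subgroup G) : Set (G ⧸ H) := {r | b • r = r}

variable {a b : G} {H : Subgroup G}

private theorem eleven : Fact (Nat.Prime 11) := ⟨by norm_num⟩
private theorem five : Fact (Nat.Prime 5) := ⟨by norm_num⟩

theorem smul_mk_eq_iff (u x : G) :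
    u • (x : G ⧸ H) = (x : G ⧸ H) ↔ x⁻¹ * u * x ∈ H := by
  rw [MulAction.Quotient.smul_mk, QuotientGroup.eq, smul_eq_mul, ← inv_mem_iff]
  simp [mul_assoc]

namespace Sub660

variable (S : Sub660 a b H)
include S

theorem haH : a ∈ H := S.hNa (le_normalizer (mem_zpowers a))

theorem not_dvd_eleven : ¬ 11 ^ 2 ∣ Nat.card G := by rw [S.cardG]; norm_num

theorem not_dvd_five : ¬ 5 ^ 2 ∣ Nat.card G := by rw [S.cardG]; norm_num

theorem index_eq : Nat.card (G ⧸ H) = 144 := by
  have h := H.card_mul_index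
  rw [S.cardH, S.cardG] at h
  rw [← Subgroup.index]; omega

/-- `a` fixes only the base coset. -/
theorem mem_of_fix_a {x : G} (hx : x⁻¹ * a * x ∈ H) : x ∈ H := by
  have := eleven
  obtain ⟨h, hh, hxh⟩ := exists_mul_mem_normalizer S.not_dvd_eleven S.ha S.haH hx
  exact (H.mul_mem_cancel_right hh).mp (S.hNa hxh)

/-- The cosets fixed by `b` come from its normaliser. -/
theorem exists_rep_of_fix_b {r : G ⧸ H} (hr : r ∈ fixSet b H) :
    ∃ x ∈ Subgroup.normalizer (zpowers b : Set G), (x : G ⧸ H) = r := by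
  have := five
  induction r using QuotientGroup.induction_on with
  | _ y =>
    obtain ⟨h, hh, hyh⟩ :=
      exists_mul_mem_normalizer S.not_dvd_five S.hb S.hbH ((smul_mk_eq_iff b y).mp hr)
    exact ⟨y * h, hyh, QuotientGroup.eq.mpr (by simpa using hh)⟩

theorem mk_mem_fixSet {x : G} (hx : x ∈ Subgroup.normalizer (zpowers b : Set G)) :
    (x : G ⧸ H) ∈ fixSet b H := by
  refine (smul_mk_eq_iff b x).mpr (zpowers_le.mpr S.hbH ?_)
  have := (Subgroup.mem_normalizer_iff.mp (inv_mem hx) b).mp (mem_zpowers b)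
  simpa using this

theorem fixSet_eq : fixSet b H =
    orbit ↥(Subgroup.normalizer (zpowers b : Set G)) ((1 : G) : G ⧸ H) := by
  ext r
  constructor
  · intro hr
    obtain ⟨x, hx, rfl⟩ := S.exists_rep_of_fix_b hr
    exact ⟨⟨x, hx⟩, by show x • ((1 : G) : G ⧸ H) = _; simp [MulAction.Quotient.smul_mk]⟩
  · rintro ⟨⟨x, hx⟩, rfl⟩
    have : x • ((1 : G) : G ⧸ H) = (x : G ⧸ H) := by simp [MulAction.Quotient.smul_mk]
    show x • ((1 : G) : G ⧸ H) ∈ fixSet b H
    rw [this]
    exact S.mk_mem_fixSet hx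

theorem card_normalizer_inf :
    Nat.card ↥(Subgroup.normalizer (zpowers b : Set G) ⊓ H) = 10 := by
  have := five
  obtain ⟨n, hn, hn1⟩ := card_eq_normalizer_inf_mul S.not_dvd_five S.hb S.hbH
  set N := Subgroup.normalizer (zpowers b : Set G) ⊓ H with hN
  have h40 : Nat.card N ∣ 40 := S.cardNb ▸ card_dvd_of_le inf_le_left
  have hle : zpowers b ≤ N := le_inf le_normalizer (zpowers_le.mpr S.hbH)
  have h5 : 5 ∣ Nat.card N := by
    have := card_dvd_of_le hle
    rwa [Nat.card_zpowers, S.hb] at this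
  have hne : Nat.card N ≠ 5 := fun h => by
    obtain ⟨x, hxH, hxN, hxb⟩ := S.extra
    refine hxb ?_
    rw [Subgroup.eq_of_le_of_card_ge hle (by rw [h, Nat.card_zpowers, S.hb])]
    exact ⟨hxN, hxH⟩
  have hm : Nat.card N ∈ Nat.divisors 40 := Nat.mem_divisors.mpr ⟨h40, by norm_num⟩
  rw [show Nat.divisors 40 = {1, 2, 4, 5, 8, 10, 20, 40} by decide] at hm
  simp only [Finset.mem_insert, Finset.mem_singleton] at hm
  rw [S.cardH] at hn
  unfold Nat.ModEq at hn1
  rcases hm with h | h | h | h | h | h | h | h <;> rw [h] at hn h5 hne ⊢ <;> omega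

theorem card_fixSet : (fixSet b H).ncard = 4 := by
  set N := Subgroup.normalizer (zpowers b : Set G)
  rw [S.fixSet_eq, ← Nat.card_coe_set_eq]
  have h := MulAction.index_stabilizer ↥N ((1 : G) : G ⧸ H)
  rw [← Nat.card_coe_set_eq] at h
  rw [← h]
  have hs : stabilizer ↥N ((1 : G) : G ⧸ H) = H.subgroupOf N := by
    ext ⟨x, hx⟩
    rw [MulAction.mem_stabilizer_iff, Subgroup.mem_subgroupOf]
    show x • ((1 : G) : G ⧸ H) = _ ↔ _
    rw [smul_mk_eq_iff]
    simp
  rw [hs]
  have hc : Nat.card (H.subgroupOf N) = 10 := by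
    rw [← inf_subgroupOf_right, Nat.card_congr (subgroupOfEquivOfLe inf_le_right).toEquiv,
      inf_comm, S.card_normalizer_inf]
  have hi := card_mul_index (H.subgroupOf N)
  rw [hc, S.cardNb] at hi
  omega

theorem one_mem_fixSet : ((1 : G) : G ⧸ H) ∈ fixSet b H := S.mk_mem_fixSet (one_mem _)

/-- The base coset is alone in its orbit. -/
theorem orbit_one : orbit ↥H ((1 : G) : G ⧸ H) = {((1 : G) : G ⧸ H)} := by
  refine Set.eq_singleton_iff_unique_mem.mpr ⟨mem_orbit_self _, ?_⟩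
  rintro r ⟨⟨h, hh⟩, rfl⟩
  show h • ((1 : G) : G ⧸ H) = _
  rw [smul_mk_eq_iff]
  simpa using hh

theorem eleven_dvd_orbit {q : G ⧸ H} (hq : q ≠ ((1 : G) : G ⧸ H)) :
    11 ∣ (orbit ↥H q).ncard := by
  have := eleven
  have h := SmallGroups.card_fixedBy_modEq_card (α := orbit ↥H q) (G := ↥H)
    (x := ⟨a, S.haH⟩) (q := 11) (i := 1)
    (Subtype.ext (by simp [← S.ha, pow_orderOf_eq_one]))
  have h0 : Nat.card (fixedBy (orbit ↥H q) (⟨a, S.haH⟩ : ↥H)) = 0 := by
    rw [Nat.card_eq_zero]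
    refine Or.inl ⟨fun ⟨⟨r, hr⟩, hfix⟩ => ?_⟩
    have hfix' : a • r = r := congrArg Subtype.val hfix
    induction r using QuotientGroup.induction_on with
    | _ y =>
      have hy := S.mem_of_fix_a ((smul_mk_eq_iff a y).mp hfix')
      have he : (y : G ⧸ H) = ((1 : G) : G ⧸ H) := QuotientGroup.eq.mpr (by simpa using hy)
      rw [he] at hr
      have hmem : q ∈ orbit ↥H ((1 : G) : G ⧸ H) := mem_orbit_symm.mp hr
      rw [S.orbit_one] at hmem
      exact hq hmem
  rw [h0, Nat.card_coe_set_eq] at h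
  exact Nat.modEq_zero_iff_dvd.mp h.symm

theorem fixed_modEq_orbit (q : G ⧸ H) :
    (orbit ↥H q ∩ fixSet b H).ncard ≡ (orbit ↥H q).ncard [MOD 5] := by
  have := five
  have h := SmallGroups.card_fixedBy_modEq_card (α := orbit ↥H q) (G := ↥H)
    (x := ⟨b, S.hbH⟩) (q := 5) (i := 1)
    (Subtype.ext (by simp [← S.hb, pow_orderOf_eq_one]))
  rw [Nat.card_coe_set_eq (orbit ↥H q)] at h
  let e : fixedBy (orbit ↥H q) (⟨b, S.hbH⟩ : ↥H) ≃ ↥(orbit ↥H q ∩ fixSet b H) :=
    { toFun := fun r => ⟨r.1.1, r.1.2, congrArg Subtype.val r.2⟩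
      invFun := fun r => ⟨⟨r.1, r.2.1⟩, Subtype.ext r.2.2⟩
      left_inv := fun r => rfl
      right_inv := fun r => rfl }
  rw [Nat.card_congr e, Nat.card_coe_set_eq] at h
  exact h

/-- The shape of a suborbit through a coset fixed by `b`. -/
theorem fixed_orbit {q : G ⧸ H} (hq : q ≠ ((1 : G) : G ⧸ H)) (hqb : q ∈ fixSet b H) :
    ((orbit ↥H q ∩ fixSet b H).ncard = 1 ∧
      ((orbit ↥H q).ncard = 11 ∨ (orbit ↥H q).ncard = 66)) ∨
    ((orbit ↥H q ∩ fixSet b H).ncard = 2 ∧ (orbit ↥H q).ncard = 132) := by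
  have := five
  set K := stabilizer G q ⊓ H with hK
  set N := Subgroup.normalizer (zpowers b : Set G) with hN
  have hbK : b ∈ K := ⟨hqb, S.hbH⟩
  obtain ⟨n5, hn5, hn5'⟩ := card_eq_normalizer_inf_mul S.not_dvd_five S.hb hbK
  -- the orbit
  have horb : (orbit ↥H q).ncard * Nat.card K = 660 := by
    have hs : stabilizer ↥H q = (stabilizer G q).subgroupOf H := rfl
    have h := (stabilizer ↥H q).card_mul_index
    rw [MulAction.index_stabilizer, S.cardH] at h
    rw [hs, ← inf_subgroupOf_right, Nat.card_congr (subgroupOfEquivOfLe inf_le_right).toEquiv,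
      ← hK] at h
    rw [mul_comm]; exact h
  -- the fixed points inside the orbit
  have hfix : orbit ↥H q ∩ fixSet b H = orbit ↥(N ⊓ H) q := by
    ext r
    constructor
    · rintro ⟨⟨⟨h, hh⟩, rfl⟩, hr⟩
      have hr' : h⁻¹ * b * h ∈ K := by
        refine ⟨?_, H.mul_mem (H.mul_mem (H.inv_mem hh) S.hbH) hh⟩
        show (h⁻¹ * b * h) • q = q
        rw [mul_smul, mul_smul]
        show h⁻¹ • b • h • q = q
        rw [show b • h • q = h • q from hr, inv_smul_smul]
      obtain ⟨k, hk, hhk⟩ := exists_mul_mem_normalizer S.not_dvd_five S.hb hbK hr'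
      refine ⟨⟨h * k, hhk, H.mul_mem hh hk.2⟩, ?_⟩
      show (h * k) • q = h • q
      rw [mul_smul, show k • q = q from hk.1]
    · rintro ⟨⟨h, hhN, hhH⟩, rfl⟩
      refine ⟨⟨⟨h, hhH⟩, rfl⟩, ?_⟩
      obtain ⟨k, hk⟩ := mem_zpowers_iff.mp
        ((Subgroup.mem_normalizer_iff.mp (inv_mem hhN) b).mp (mem_zpowers b))
      show b • h • q = h • q
      rw [← mul_smul, show b * h = h * b ^ k by rw [hk]; group, mul_smul,
        show b ^ k • q = q from (stabilizer G q).zpow_mem hqb k]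
  have hcount : (orbit ↥H q ∩ fixSet b H).ncard * Nat.card ↥(N ⊓ K) = 10 := by
    have hs : stabilizer ↥(N ⊓ H) q = (stabilizer G q).subgroupOf (N ⊓ H) := rfl
    have h := (stabilizer ↥(N ⊓ H) q).card_mul_index
    rw [MulAction.index_stabilizer, S.card_normalizer_inf] at h
    rw [hs, ← inf_subgroupOf_right, Nat.card_congr (subgroupOfEquivOfLe inf_le_right).toEquiv,
      show stabilizer G q ⊓ (N ⊓ H) = N ⊓ K by rw [hK, inf_left_comm]] at h
    rw [hfix, mul_comm]; exact h
  have h5 : 5 ∣ Nat.card ↥(N ⊓ K) := by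
    have := card_dvd_of_le (show zpowers b ≤ N ⊓ K from
      le_inf le_normalizer (zpowers_le.mpr hbK))
    rwa [Nat.card_zpowers, S.hb] at this
  have hN10 : Nat.card ↥(N ⊓ K) ∣ 10 := ⟨_, by rw [mul_comm]; exact hcount.symm⟩
  have h11 := S.eleven_dvd_orbit hq
  generalize hkdef : (orbit ↥H q).ncard = k at horb h11 ⊢
  generalize hnfdef : (orbit ↥H q ∩ fixSet b H).ncard = nf at hcount ⊢
  obtain ⟨m, rfl⟩ := h11
  have hm : m * Nat.card K = 60 := by
    apply Nat.eq_of_mul_eq_mul_left (show 0 < 11 by norm_num)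
    rw [← mul_assoc, horb]
  rw [hn5] at hm
  have hc : Nat.card ↥(N ⊓ K) = 5 ∨ Nat.card ↥(N ⊓ K) = 10 := by
    obtain ⟨t, ht⟩ := h5
    rw [ht] at hN10 ⊢
    have ht2 : t ∣ 2 := Nat.dvd_of_mul_dvd_mul_left (by norm_num) (hN10 : 5 * t ∣ 5 * 2)
    rcases (Nat.dvd_prime Nat.prime_two).mp ht2 with rfl | rfl <;> omega
  rcases hc with hc | hc
  · rw [hc] at hm hcount
    have hd : n5 ∈ Nat.divisors 12 := Nat.mem_divisors.mpr ⟨⟨m, by linarith⟩, by norm_num⟩
    rw [show Nat.divisors 12 = {1, 2, 3, 4, 6, 12} by decide] at hd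
    simp only [Finset.mem_insert, Finset.mem_singleton] at hd
    unfold Nat.ModEq at hn5'
    have : n5 = 1 ∨ n5 = 6 := by omega
    rcases this with rfl | rfl
    · exact Or.inr ⟨by omega, by omega⟩
    · exfalso
      have h30 : Nat.card K = 30 := by rw [hn5, hc]
      obtain ⟨P, hP⟩ := exists_sylow_zpowers (G := ↥K) (p := 5) (by rw [h30]; norm_num)
        (u := (⟨b, hbK⟩ : K)) (by simpa using S.hb)
      have h1 := Recog71.OrderSixty.unique_five_of_thirty h30
      have : Subsingleton (Sylow 5 ↥K) := (Nat.card_eq_one_iff_unique.mp h1).1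
      have hnorm : (zpowers (⟨b, hbK⟩ : K)).Normal := hP ▸ Sylow.normal_of_subsingleton P
      have hKN : K ≤ N := by
        intro x hx
        rw [hN, Subgroup.mem_normalizer_iff]
        have key : ∀ y ∈ K, ∀ g : G, g ∈ zpowers b → y * g * y⁻¹ ∈ zpowers b := by
          intro y hy g hg
          obtain ⟨i, rfl⟩ := mem_zpowers_iff.mp hg
          obtain ⟨j, hj⟩ := mem_zpowers_iff.mp
            (hnorm.conj_mem _ (zpow_mem (mem_zpowers _) i) ⟨y, hy⟩)
          exact ⟨j, by simpa using congrArg Subtype.val hj⟩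
        refine fun g => ⟨key x hx g, fun hg => ?_⟩
        have := key x⁻¹ (K.inv_mem hx) _ hg
        simpa [mul_assoc] using this
      rw [inf_eq_right.mpr hKN, h30] at hc
      omega
  · rw [hc] at hm hcount
    have hd : n5 ∈ Nat.divisors 6 := Nat.mem_divisors.mpr ⟨⟨m, by linarith⟩, by norm_num⟩
    rw [show Nat.divisors 6 = {1, 2, 3, 6} by decide] at hd
    simp only [Finset.mem_insert, Finset.mem_singleton] at hd
    unfold Nat.ModEq at hn5'
    refine Or.inl ⟨by omega, ?_⟩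
    have : n5 = 1 ∨ n5 = 6 := by omega
    rcases this with rfl | rfl <;> omega

/-- On a suborbit of 11 cosets, an invariant symmetric function of pairs is constant. -/
theorem eleven_const {q : G ⧸ H} (hqb : q ∈ fixSet b H)
    (hk : (orbit ↥H q).ncard = 11) (hn : (orbit ↥H q ∩ fixSet b H).ncard = 1)
    {α : Type*} (f : G ⧸ H → G ⧸ H → α) (hsymm : ∀ r s, f r s = f s r)
    (hinv : ∀ (h : ↥H) r s, f (h • r) (h • s) = f r s)
    {s t : G ⧸ H} (hs : s ∈ orbit ↥H q) (hsq : s ≠ q) (ht : t ∈ orbit ↥H q) (htq : t ≠ q) :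
    f q s = f q t := by
  classical
  have := five
  set K := stabilizer ↥H q with hK
  have hKcard : Nat.card K = 60 := by
    have h := K.card_mul_index
    rw [hK, MulAction.index_stabilizer, hk, S.cardH, ← hK] at h
    omega
  set O := orbit ↥H q \ {q} with hO
  have hOcard : O.ncard = 10 := by
    rw [hO, Set.ncard_sdiff (by simp), hk, Set.ncard_singleton]
  have hKO : ∀ u ∈ O, orbit ↥K u ⊆ O := by
    rintro u ⟨hu, huq⟩ r ⟨k, rfl⟩
    refine ⟨?_, fun h => huq ?_⟩
    · obtain ⟨g, rfl⟩ := hu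
      exact ⟨(k : ↥H) * g, mul_smul _ _ _⟩
    · have h' : (k : ↥H) • u = q := h
      show u = q
      rw [← inv_smul_smul (k : ↥H) u, h', inv_smul_eq_iff]
      exact k.2.symm
  have hbK : (⟨b, S.hbH⟩ : ↥H) ∈ K := hqb
  have h5 : ∀ u ∈ O, 5 ∣ (orbit ↥K u).ncard := by
    intro u hu
    have h := SmallGroups.card_fixedBy_modEq_card (α := orbit ↥K u) (G := ↥K)
      (x := ⟨_, hbK⟩) (q := 5) (i := 1)
      (Subtype.ext (Subtype.ext (by simp [← S.hb, pow_orderOf_eq_one])))
    have h0 : Nat.card (fixedBy (orbit ↥K u) (⟨_, hbK⟩ : ↥K)) = 0 := by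
      rw [Nat.card_eq_zero]
      refine Or.inl ⟨fun ⟨⟨r, hr⟩, hfix⟩ => ?_⟩
      have hfix' : b • r = r := congrArg Subtype.val hfix
      have hrO := hKO u hu hr
      obtain ⟨z, hz⟩ := Set.ncard_eq_one.mp hn
      have h1 : r ∈ orbit ↥H q ∩ fixSet b H := ⟨hrO.1, hfix'⟩
      have h2 : q ∈ orbit ↥H q ∩ fixSet b H := ⟨mem_orbit_self q, hqb⟩
      rw [hz] at h1 h2
      exact hrO.2 (h1.trans h2.symm)
    rw [h0, Nat.card_coe_set_eq] at h
    exact Nat.modEq_zero_iff_dvd.mp h.symm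
  have hfK : ∀ u, ∀ r ∈ orbit ↥K u, f q r = f q u := by
    rintro u r ⟨k, rfl⟩
    have := hinv (k : ↥H) q u
    rwa [show (k : ↥H) • q = q from k.2] at this
  have hsO : s ∈ O := ⟨hs, hsq⟩
  have htO : t ∈ O := ⟨ht, htq⟩
  by_cases hst : t ∈ orbit ↥K s
  · exact (hfK s t hst).symm
  -- two orbits of five
  have hdis : Disjoint (orbit ↥K s) (orbit ↥K t) := by
    rw [Set.disjoint_left]
    intro r hr hr'
    apply hst
    rw [← orbit_eq_iff.mpr hr, orbit_eq_iff.mpr hr']
    exact mem_orbit_self t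
  have hle : (orbit ↥K s).ncard + (orbit ↥K t).ncard ≤ 10 := by
    rw [← Set.ncard_union_eq hdis, ← hOcard]
    exact Set.ncard_le_ncard (Set.union_subset (hKO s hsO) (hKO t htO))
  have hpos : ∀ u : G ⧸ H, 0 < (orbit ↥K u).ncard := fun u =>
    (Set.ncard_pos (Set.toFinite _)).mpr (nonempty_orbit u)
  have hs5 : (orbit ↥K s).ncard = 5 := by
    have := h5 s hsO; have := h5 t htO; have := hpos s; have := hpos t
    omega
  have ht5 : (orbit ↥K t).ncard = 5 := by
    have := h5 s hsO; have := h5 t htO; have := hpos s; have := hpos t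
    omega
  have hun : orbit ↥K s ∪ orbit ↥K t = O := by
    refine Set.eq_of_subset_of_ncard_le (Set.union_subset (hKO s hsO) (hKO t htO)) ?_
    rw [Set.ncard_union_eq hdis, hs5, ht5, hOcard]
  obtain ⟨g₀, hg₀⟩ := hs
  set h := g₀⁻¹ with hh
  have hhs : h • s = q := by rw [hh, ← hg₀, inv_smul_smul]
  have hs1O : h • q ∈ O := by
    refine ⟨mem_orbit q h, fun e => hsq ?_⟩
    have e' : h • q = q := e
    rw [← e'] at hhs
    exact MulAction.injective h hhs
  have hf1 : f q (h • q) = f q s := by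
    have := hinv h s q
    rwa [hhs, hsymm s q] at this
  rw [← hun] at hs1O
  rcases hs1O with hmem | hmem
  swap
  · rw [← hf1, hfK t _ hmem]
  -- otherwise the pair is swapped, and its stabiliser has order 24
  exfalso
  obtain ⟨k, hk'⟩ := mem_orbit_symm.mp hmem
  have hk'' : (k : ↥H) • h • q = s := hk'
  set w := (k : ↥H) * h with hw
  have hwq : w • q = s := by rw [hw, mul_smul]; exact hk''
  have hws : w • s = q := by
    rw [hw, mul_smul, hhs]; exact k.2
  let T : Subgroup ↥H :=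
    { carrier := {x | (x • q = q ∧ x • s = s) ∨ (x • q = s ∧ x • s = q)}
      one_mem' := Or.inl ⟨one_smul _ _, one_smul _ _⟩
      mul_mem' := by
        rintro x y (⟨h1, h2⟩ | ⟨h1, h2⟩) (⟨h3, h4⟩ | ⟨h3, h4⟩)
        · exact Or.inl ⟨by rw [mul_smul, h3, h1], by rw [mul_smul, h4, h2]⟩
        · exact Or.inr ⟨by rw [mul_smul, h3, h2], by rw [mul_smul, h4, h1]⟩
        · exact Or.inr ⟨by rw [mul_smul, h3, h1], by rw [mul_smul, h4, h2]⟩
        · exact Or.inl ⟨by rw [mul_smul, h3, h2], by rw [mul_smul, h4, h1]⟩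
      inv_mem' := by
        rintro x (⟨h1, h2⟩ | ⟨h1, h2⟩)
        · exact Or.inl ⟨inv_smul_eq_iff.mpr h1.symm, inv_smul_eq_iff.mpr h2.symm⟩
        · exact Or.inr ⟨inv_smul_eq_iff.mpr h2.symm, inv_smul_eq_iff.mpr h1.symm⟩ }
  have horbT : orbit ↥T q = {q, s} := by
    ext r
    constructor
    · rintro ⟨⟨x, hx⟩, rfl⟩
      rcases hx with ⟨h1, -⟩ | ⟨h1, -⟩
      · exact Or.inl h1
      · exact Or.inr h1
    · rintro (rfl | rfl)
      · exact mem_orbit_self _
      · exact ⟨⟨w, Or.inr ⟨hwq, hws⟩⟩, hwq⟩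
  have hL : Nat.card ↥(K ⊓ stabilizer ↥H s) = 12 := by
    have h' := (stabilizer ↥K s).card_mul_index
    rw [MulAction.index_stabilizer, hs5, hKcard] at h'
    have e : stabilizer ↥K s = (stabilizer ↥H s).subgroupOf K := rfl
    rw [e, ← inf_subgroupOf_right, Nat.card_congr (subgroupOfEquivOfLe inf_le_right).toEquiv,
      inf_comm] at h'
    omega
  have hT : Nat.card T = 24 := by
    have h' := (stabilizer ↥T q).card_mul_index
    rw [MulAction.index_stabilizer, horbT, Set.ncard_pair (Ne.symm hsq)] at h'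
    have e : stabilizer ↥T q = (K ⊓ stabilizer ↥H s).subgroupOf T := by
      ext ⟨x, hx⟩
      rw [mem_stabilizer_iff, mem_subgroupOf]
      constructor
      · intro hxq
        have hxq' : x • q = q := hxq
        refine ⟨hxq', ?_⟩
        rcases hx with ⟨-, h2⟩ | ⟨h1, -⟩
        · exact h2
        · exact absurd (h1.symm.trans hxq') hsq
      · exact fun h3 => h3.1
    have hLT : K ⊓ stabilizer ↥H s ≤ T := fun x hx =>
      Or.inl ⟨mem_stabilizer_iff.mp hx.1, mem_stabilizer_iff.mp hx.2⟩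
    rw [e, Nat.card_congr (subgroupOfEquivOfLe hLT).toEquiv, hL] at h'
    omega
  have := T.card_subgroup_dvd_card
  rw [hT, S.cardH] at this
  norm_num at this

end Sub660

end Cfsg.Agent.M12Ord86
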