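import Cfsg.Agent.Lib.CharCore.Complete

/-!
# Averaging projections over subgroups in a complex representation
-/

set_option autoImplicit false

open Module Subgroup

namespace Cfsg.Agent.M12Ord86

set_option linter.unusedSectionVars false
variable {G : Type*} [Group G] [Fintype G]
variable {V : Type*} [AddCommGroup V] [Module ℂ V]

open Classical in
/-- The elements of a subgroup as a finite set. -/
noncomputable def elems (K : Subgroup G) : Finset G := Finset.univ.filter (· ∈ K)

theorem mem_elems {K : Subgroup G} {g : G} : g ∈ elems K ↔ g ∈ K := by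
  simp [elems]

theorem card_elems (K : Subgroup G) : (elems K).card = Nat.card K :=
  (Nat.subtype_card (elems K) fun g => mem_elems).symm

theorem elems_card_ne_zero (K : Subgroup G) : ((Nat.card K : ℕ) : ℂ) ≠ 0 :=
  Nat.cast_ne_zero.mpr Nat.card_pos.ne'

/-- The average of a representation over a subgroup. -/
noncomputable def proj (ρ : Representation ℂ G V) (K : Subgroup G) : Module.End ℂ V :=
  ((Nat.card K : ℂ))⁻¹ • ∑ k ∈ elems K, ρ k

variable {ρ : Representation ℂ G V} {K L : Subgroup G}

theorem mul_proj {k : G} (hk : k ∈ K) : ρ k * proj ρ K = proj ρ K := by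
  rw [proj, mul_smul_comm, Finset.mul_sum]
  congr 1
  refine Finset.sum_equiv (Equiv.mulLeft k) (fun x => ?_) (fun x _ => (map_mul ρ k x).symm)
  simp only [mem_elems, Equiv.coe_mulLeft]
  exact (K.mul_mem_cancel_left hk).symm

theorem proj_mul {k : G} (hk : k ∈ K) : proj ρ K * ρ k = proj ρ K := by
  rw [proj, smul_mul_assoc, Finset.sum_mul]
  congr 1
  refine Finset.sum_equiv (Equiv.mulRight k) (fun x => ?_) (fun x _ => (map_mul ρ x k).symm)
  simp only [mem_elems, Equiv.coe_mulRight]
  exact (K.mul_mem_cancel_right hk).symm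

/-- The average fixes whatever each element fixes. -/
theorem proj_mul_eq {X : Module.End ℂ V} (h : ∀ k ∈ K, ρ k * X = X) : proj ρ K * X = X := by
  rw [proj, smul_mul_assoc, Finset.sum_mul, Finset.sum_congr rfl fun k hk => h k (mem_elems.mp hk),
    Finset.sum_const, card_elems, ← Nat.cast_smul_eq_nsmul ℂ, smul_smul,
    inv_mul_cancel₀ (elems_card_ne_zero K), one_smul]

theorem mul_proj_eq {X : Module.End ℂ V} (h : ∀ k ∈ K, X * ρ k = X) : X * proj ρ K = X := by
  rw [proj, mul_smul_comm, Finset.mul_sum, Finset.sum_congr rfl fun k hk => h k (mem_elems.mp hk),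
    Finset.sum_const, card_elems, ← Nat.cast_smul_eq_nsmul ℂ, smul_smul,
    inv_mul_cancel₀ (elems_card_ne_zero K), one_smul]

theorem proj_mul_proj_of_le (h : L ≤ K) : proj ρ L * proj ρ K = proj ρ K :=
  proj_mul_eq fun _ hk => mul_proj (h hk)

theorem proj_mul_proj_of_le' (h : L ≤ K) : proj ρ K * proj ρ L = proj ρ K :=
  mul_proj_eq fun _ hk => proj_mul (h hk)

theorem proj_idem : proj ρ K * proj ρ K = proj ρ K := proj_mul_proj_of_le le_rfl

theorem commute_proj {g : G} (hg : g ∈ Subgroup.normalizer (K : Set G)) :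
    ρ g * proj ρ K = proj ρ K * ρ g := by
  rw [proj, mul_smul_comm, smul_mul_assoc, Finset.mul_sum, Finset.sum_mul]
  congr 1
  refine Finset.sum_equiv (MulAut.conj g).toEquiv (fun x => ?_) (fun x _ => ?_)
  · simp only [mem_elems, MulEquiv.toEquiv_eq_coe, MulEquiv.coe_toEquiv, MulAut.conj_apply]
    exact Subgroup.mem_normalizer_iff.mp hg x
  · rw [← map_mul, ← map_mul]
    congr 1
    simp

variable [FiniteDimensional ℂ V]

theorem trace_proj :
    LinearMap.trace ℂ V (proj ρ K) = (Nat.card K : ℂ)⁻¹ * ∑ k ∈ elems K, ρ.character k := by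
  rw [proj, map_smul, map_sum, smul_eq_mul]
  rfl

theorem isProj_proj : LinearMap.IsProj (LinearMap.range (proj ρ K)) (proj ρ K) :=
  LinearMap.isProj_range_iff_isIdempotentElem _ |>.mpr proj_idem

theorem trace_proj_eq_finrank :
    LinearMap.trace ℂ V (proj ρ K) = (finrank ℂ (LinearMap.range (proj ρ K)) : ℂ) :=
  isProj_proj.trace

theorem proj_eq_zero (h : LinearMap.trace ℂ V (proj ρ K) = 0) : proj ρ K = 0 := by
  rw [trace_proj_eq_finrank, Nat.cast_eq_zero, Submodule.finrank_eq_zero,
    LinearMap.range_eq_bot] at h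
  exact h

/-- If a larger subgroup has as many fixed vectors, then the two averages agree. -/
theorem proj_eq_of_trace (h : L ≤ K)
    (ht : LinearMap.trace ℂ V (proj ρ K) = LinearMap.trace ℂ V (proj ρ L)) :
    proj ρ K = proj ρ L := by
  have hle : LinearMap.range (proj ρ K) ≤ LinearMap.range (proj ρ L) := by
    rw [← proj_mul_proj_of_le (ρ := ρ) h, Module.End.mul_eq_comp]
    exact LinearMap.range_comp_le_range _ _
  have heq := Submodule.eq_of_le_of_finrank_eq hle (by
    rw [trace_proj_eq_finrank, trace_proj_eq_finrank] at ht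
    exact_mod_cast ht)
  rw [← proj_mul_proj_of_le' (ρ := ρ) h]
  refine LinearMap.ext fun x => ?_
  rw [Module.End.mul_apply]
  exact isProj_proj.map_id _ (heq ▸ LinearMap.mem_range_self _ x)

/-- Compressing by a projection of rank one. -/
theorem proj_mul_mul_proj (h : LinearMap.trace ℂ V (proj ρ K) = 1) (X : Module.End ℂ V) :
    proj ρ K * X * proj ρ K = LinearMap.trace ℂ V (X * proj ρ K) • proj ρ K := by
  have h1 : finrank ℂ (LinearMap.range (proj ρ K)) = 1 := by
    rw [trace_proj_eq_finrank] at h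
    exact_mod_cast h
  obtain ⟨v, hv0, hv⟩ := finrank_eq_one_iff'.mp h1
  obtain ⟨c, hc⟩ := hv ⟨_, LinearMap.mem_range_self _ (X (v : V))⟩
  have hc' : proj ρ K (X (v : V)) = c • (v : V) := (congrArg Subtype.val hc).symm
  have key : proj ρ K * X * proj ρ K = c • proj ρ K := by
    refine LinearMap.ext fun x => ?_
    obtain ⟨a, ha⟩ := hv ⟨_, LinearMap.mem_range_self _ x⟩
    have ha' : proj ρ K x = a • (v : V) := (congrArg Subtype.val ha).symm
    rw [Module.End.mul_apply, Module.End.mul_apply, LinearMap.smul_apply, ha', map_smul, map_smul,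
      hc', smul_comm]
  have htr := congrArg (LinearMap.trace ℂ V) key
  rw [map_smul, h, smul_eq_mul, mul_one, LinearMap.trace_mul_comm, ← mul_assoc, proj_idem,
    LinearMap.trace_mul_comm] at htr
  rw [key, htr]

/-- Schur's lemma for a conjugation average. -/
theorem sum_conj_eq_smul [ρ.IsIrreducible] (X : Module.End ℂ V) :
    ∑ g : G, ρ g * X * ρ g⁻¹ =
      ((Nat.card G : ℂ) * LinearMap.trace ℂ V X / (finrank ℂ V : ℂ)) • (1 : Module.End ℂ V) := by
  set T := ∑ g : G, ρ g * X * ρ g⁻¹ with hT
  have hcomm : ∀ h : G, T * ρ h = ρ h * T := fun h => by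
    rw [hT, Finset.sum_mul, Finset.mul_sum]
    refine Fintype.sum_equiv (Equiv.mulLeft h⁻¹) _ _ fun g => ?_
    simp only [Equiv.coe_mulLeft, ← mul_assoc, ← map_mul]
    rw [mul_assoc (ρ g * X), ← map_mul]
    simp
  let T' : Representation.IntertwiningMap ρ ρ := ⟨T, fun g => hcomm g⟩
  obtain ⟨c, hc⟩ :=
    (Representation.IsIrreducible.algebraMap_intertwiningMap_bijective_of_isAlgClosed (k := ℂ)
      (ρ := ρ)).2 T'
  have hc' : T = c • (1 : Module.End ℂ V) := by
    have h := congrArg Representation.IntertwiningMap.toLinearMap hc.symm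
    simpa [T', Representation.IntertwiningMap.toLinearMap_smul] using! h
  have htr : LinearMap.trace ℂ V T = (Nat.card G : ℂ) * LinearMap.trace ℂ V X := by
    rw [hT, map_sum, Finset.sum_congr rfl fun g _ => ?_, Finset.sum_const, Finset.card_univ,
      nsmul_eq_mul, ← Nat.card_eq_fintype_card]
    rw [LinearMap.trace_mul_comm, ← mul_assoc, ← map_mul, inv_mul_cancel, map_one, one_mul]
  rw [hc', map_smul, LinearMap.trace_one, smul_eq_mul] at htr
  rw [hc', ← htr, mul_div_assoc, div_self, mul_one]
  exact_mod_cast (CharCore.finrank_pos_of_irreducible ρ).ne'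

end Cfsg.Agent.M12Ord86
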