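import Cfsg.Agent.M12Ord86.Proj

/-!
# Spherical values of a subgroup with a one-dimensional space of fixed vectors
-/

set_option autoImplicit false
set_option linter.unusedSectionVars false

open Module Subgroup

namespace Cfsg.Agent.M12Ord86

variable {G : Type*} [Group G] [Fintype G]
variable {V : Type*} [AddCommGroup V] [Module ℂ V] [FiniteDimensional ℂ V]

/-- `H₀` fixes exactly a line, the character is real and has no trivial constituent. -/
structure Spherical (ρ : Representation ℂ G V) (H₀ : Subgroup G) : Prop where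
  irr : ρ.IsIrreducible
  tr : LinearMap.trace ℂ V (proj ρ H₀) = 1
  inv : ∀ g, ρ.character g⁻¹ = ρ.character g
  noTriv : ∑ g : G, ρ.character g = 0

/-- The spherical value at `g`. -/
noncomputable def sph (ρ : Representation ℂ G V) (H₀ : Subgroup G) (g : G) : ℂ :=
  LinearMap.trace ℂ V (ρ g * proj ρ H₀)

/-- The stabiliser of the line of fixed vectors, pointwise. -/
noncomputable def fixer (ρ : Representation ℂ G V) (H₀ : Subgroup G) : Subgroup G where
  carrier := {g | ρ g * proj ρ H₀ = proj ρ H₀}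
  mul_mem' {a b} ha hb := by
    simp only [Set.mem_ofPred_eq] at ha hb ⊢
    rw [map_mul, mul_assoc, hb, ha]
  one_mem' := by simp
  inv_mem' {a} ha := by
    simp only [Set.mem_ofPred_eq] at ha ⊢
    nth_rw 1 [← ha]
    rw [← mul_assoc, ← map_mul, inv_mul_cancel, map_one, one_mul]

variable {ρ : Representation ℂ G V} {H₀ : Subgroup G}

theorem mem_fixer {g : G} : g ∈ fixer ρ H₀ ↔ ρ g * proj ρ H₀ = proj ρ H₀ := Iff.rfl

theorem le_fixer : H₀ ≤ fixer ρ H₀ := fun _ hg => mul_proj hg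

theorem proj_fixer : proj ρ (fixer ρ H₀) = proj ρ H₀ := by
  rw [← proj_mul_proj_of_le' (ρ := ρ) (le_fixer (ρ := ρ) (H₀ := H₀))]
  exact proj_mul_eq fun _ hk => hk

theorem proj_mul_fixer {g : G} (hg : g ∈ fixer ρ H₀) : proj ρ H₀ * ρ g = proj ρ H₀ := by
  rw [← proj_fixer]
  exact proj_mul hg

/-- Membership in the fixer from a larger subgroup with the same fixed space as `B ≤ H₀`. -/
theorem mem_fixer_of_trace {B K : Subgroup G} (hB : B ≤ H₀) (hBK : B ≤ K)
    (ht : LinearMap.trace ℂ V (proj ρ K) = LinearMap.trace ℂ V (proj ρ B)) : K ≤ fixer ρ H₀ := by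
  intro k hk
  rw [mem_fixer, ← proj_mul_proj_of_le (ρ := ρ) hB, ← proj_eq_of_trace hBK ht, ← mul_assoc,
    mul_proj hk]

theorem sph_left {h : G} (hh : h ∈ fixer ρ H₀) (g : G) : sph ρ H₀ (h * g) = sph ρ H₀ g := by
  rw [sph, sph, map_mul ρ, mul_assoc, LinearMap.trace_mul_comm, mul_assoc, proj_mul_fixer hh]

theorem sph_right {h : G} (hh : h ∈ fixer ρ H₀) (g : G) : sph ρ H₀ (g * h) = sph ρ H₀ g := by
  rw [sph, sph, map_mul ρ, mul_assoc, mem_fixer.mp hh]

theorem sph_one (hS : Spherical ρ H₀) : sph ρ H₀ 1 = 1 := by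
  rw [sph, map_one, one_mul, hS.tr]

theorem sph_eq_sum (g : G) :
    sph ρ H₀ g = (Nat.card H₀ : ℂ)⁻¹ * ∑ k ∈ elems H₀, ρ.character (g * k) := by
  rw [sph, proj, mul_smul_comm, Finset.mul_sum, map_smul, map_sum, smul_eq_mul]
  congr 1
  refine Finset.sum_congr rfl fun k _ => ?_
  rw [← map_mul]
  rfl

theorem sph_inv (hS : Spherical ρ H₀) (g : G) : sph ρ H₀ g⁻¹ = sph ρ H₀ g := by
  rw [sph_eq_sum, sph_eq_sum]
  congr 1
  refine Finset.sum_equiv (Equiv.inv G) (fun k => ?_) (fun k _ => ?_)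
  · simp [mem_elems]
  · rw [← hS.inv, mul_inv_rev, inv_inv, ρ.char_mul_comm]
    rfl

/-- The compression of `ρ g` to the fixed line. -/
theorem proj_rho_proj (hS : Spherical ρ H₀) (g : G) :
    proj ρ H₀ * ρ g * proj ρ H₀ = sph ρ H₀ g • proj ρ H₀ :=
  proj_mul_mul_proj hS.tr (ρ g)

theorem sum_rho_eq_zero (hS : Spherical ρ H₀) : ∑ g : G, ρ g = 0 := by
  have h0 : proj ρ (⊤ : Subgroup G) = 0 := by
    refine proj_eq_zero ?_
    rw [trace_proj]
    have : elems (⊤ : Subgroup G) = Finset.univ := Finset.ext fun g => by simp [mem_elems]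
    rw [this, hS.noTriv, mul_zero]
  have : elems (⊤ : Subgroup G) = Finset.univ := Finset.ext fun g => by simp [mem_elems]
  rw [proj, this, smul_eq_zero] at h0
  exact h0.resolve_left (inv_ne_zero (elems_card_ne_zero _))

theorem sum_sph (hS : Spherical ρ H₀) : ∑ g : G, sph ρ H₀ g = 0 := by
  simp only [sph]
  rw [← map_sum, ← Finset.sum_mul, sum_rho_eq_zero hS, zero_mul, map_zero]

/-- The reproducing property of spherical values. -/
theorem sum_sph_mul (hS : Spherical ρ H₀) (x y : G) :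
    ∑ g : G, sph ρ H₀ (x * g) * sph ρ H₀ (g⁻¹ * y) =
      (Nat.card G : ℂ) / (finrank ℂ V : ℂ) * sph ρ H₀ (x * y) := by
  have := hS.irr
  set P := proj ρ H₀ with hP
  have key : ∀ g : G, P * (ρ x * (ρ g * P * ρ g⁻¹) * ρ y) * P =
      (sph ρ H₀ (x * g) * sph ρ H₀ (g⁻¹ * y)) • P := fun g => by
    rw [mul_smul, ← proj_rho_proj hS, ← hP, ← smul_mul_assoc, ← smul_mul_assoc,
      ← proj_rho_proj hS, ← hP, map_mul, map_mul]
    simp only [mul_assoc]
  have h1 : ∑ g : G, P * (ρ x * (ρ g * P * ρ g⁻¹) * ρ y) * P =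
      ((Nat.card G : ℂ) / (finrank ℂ V : ℂ) * sph ρ H₀ (x * y)) • P := by
    rw [← Finset.sum_mul, ← Finset.mul_sum, ← Finset.sum_mul, ← Finset.mul_sum,
      sum_conj_eq_smul, hP, hS.tr, mul_one, mul_smul_comm, smul_mul_assoc, mul_one, ← map_mul,
      mul_smul_comm, smul_mul_assoc, proj_rho_proj hS, smul_smul]
  rw [Finset.sum_congr rfl fun g _ => key g, ← Finset.sum_smul] at h1
  have := congrArg (LinearMap.trace ℂ V) h1
  rwa [map_smul, map_smul, hP, hS.tr, smul_eq_mul, smul_eq_mul, mul_one, mul_one] at this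

theorem sum_sph_sq (hS : Spherical ρ H₀) :
    ∑ g : G, sph ρ H₀ g ^ 2 = (Nat.card G : ℂ) / (finrank ℂ V : ℂ) := by
  have h := sum_sph_mul hS 1 1
  simp only [one_mul, mul_one, sph_one hS, sph_inv hS] at h
  rw [← h]
  exact Finset.sum_congr rfl fun g _ => sq _

/-- If every translate of `X` is killed by the projection, then `X = 0`. -/
theorem eq_zero_of_forall_proj (hS : Spherical ρ H₀) {X : Module.End ℂ V}
    (h : ∀ y : G, proj ρ H₀ * ρ y * X = 0) : X = 0 := by
  have := hS.irr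
  let W : Subrepresentation ρ :=
    { toSubmodule := ⨅ y : G, LinearMap.ker (proj ρ H₀ * ρ y)
      apply_mem_toSubmodule := fun g u hu => by
        simp only [Submodule.mem_iInf, LinearMap.mem_ker, Module.End.mul_apply] at hu ⊢
        intro y
        have := hu (y * g)
        rwa [map_mul, Module.End.mul_apply] at this }
  rcases eq_bot_or_eq_top W with hW | hW
  · refine LinearMap.ext fun u => ?_
    have hmem : X u ∈ W.toSubmodule := by
      simp only [W, Submodule.mem_iInf, LinearMap.mem_ker]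
      exact fun y => LinearMap.congr_fun (h y) u
    rw [hW] at hmem
    simpa using! hmem
  · exfalso
    have : proj ρ H₀ = 0 := LinearMap.ext fun u => by
      have hu : u ∈ W.toSubmodule := by rw [hW]; exact Submodule.mem_top
      simp only [W, Submodule.mem_iInf, LinearMap.mem_ker] at hu
      simpa using hu 1
    have h1 := hS.tr
    rw [this, map_zero] at h1
    exact zero_ne_one h1

/-- A real-valued spherical function takes the value `± 1` only where the line goes to itself. -/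
theorem rho_proj_eq_of_sph (hS : Spherical ρ H₀) (hreal : ∀ g, ∃ r : ℝ, sph ρ H₀ g = r) {x : G}
    {s : ℂ} (hs : s ^ 2 = 1) (hx : sph ρ H₀ x = s) :
    ρ x * proj ρ H₀ = s • proj ρ H₀ := by
  choose r hr using hreal
  have e1 : ∑ g : G, sph ρ H₀ (x⁻¹ * g) ^ 2 = ∑ g : G, sph ρ H₀ g ^ 2 :=
    Fintype.sum_equiv (Equiv.mulLeft x⁻¹) _ _ fun g => rfl
  have e2 : ∑ g : G, sph ρ H₀ (x⁻¹ * g) * sph ρ H₀ g =
      (Nat.card G : ℂ) / (finrank ℂ V : ℂ) * s := by
    have h := sum_sph_mul hS x⁻¹ 1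
    rw [mul_one, sph_inv hS, hx] at h
    rw [← h]
    exact Finset.sum_congr rfl fun g _ => by rw [mul_one, sph_inv hS g]
  obtain ⟨σ, hσ⟩ : ∃ σ : ℝ, s = σ := ⟨r x, by rw [← hx, hr]⟩
  have h0 : ∑ g : G, (sph ρ H₀ (x⁻¹ * g) - s * sph ρ H₀ g) ^ 2 = 0 := by
    simp only [sub_sq, mul_pow, hs, one_mul, Finset.sum_add_distrib, Finset.sum_sub_distrib]
    rw [e1, sum_sph_sq hS, Finset.sum_congr rfl fun g _ => show
      2 * sph ρ H₀ (x⁻¹ * g) * (s * sph ρ H₀ g) = 2 * s * (sph ρ H₀ (x⁻¹ * g) * sph ρ H₀ g) by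
        ring, ← Finset.mul_sum, e2]
    linear_combination (-2 * (Nat.card G : ℂ) / (finrank ℂ V : ℂ)) * hs
  have hz : ∀ g : G, sph ρ H₀ (x⁻¹ * g) = s * sph ρ H₀ g := by
    simp only [hr, hσ, ← Complex.ofReal_mul, ← Complex.ofReal_sub, ← Complex.ofReal_pow,
      ← Complex.ofReal_sum, Complex.ofReal_eq_zero] at h0
    intro g
    have := (Finset.sum_eq_zero_iff_of_nonneg fun g _ => sq_nonneg _).mp h0 g (Finset.mem_univ g)
    rw [sq_eq_zero_iff, sub_eq_zero] at this
    rw [hr, hr, hσ, this, Complex.ofReal_mul]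
  rw [← sub_eq_zero]
  refine eq_zero_of_forall_proj hS fun y => ?_
  rw [mul_sub, mul_smul_comm, ← mul_assoc, mul_assoc (proj ρ H₀), ← map_mul, proj_rho_proj hS,
    proj_rho_proj hS, smul_smul, sub_eq_zero]
  congr 1
  rw [← sph_inv hS, mul_inv_rev, hz, sph_inv hS]

theorem mem_fixer_of_sph_eq_one (hS : Spherical ρ H₀) (hreal : ∀ g, ∃ r : ℝ, sph ρ H₀ g = r)
    {x : G} (hx : sph ρ H₀ x = 1) : x ∈ fixer ρ H₀ := by
  rw [mem_fixer, rho_proj_eq_of_sph hS hreal (one_pow 2) hx, one_smul]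

/-- Value `-1` puts the element into the normaliser. -/
theorem mem_normalizer_of_sph_eq_neg_one (hS : Spherical ρ H₀)
    (hreal : ∀ g, ∃ r : ℝ, sph ρ H₀ g = r) {x : G} (hx : sph ρ H₀ x = -1) :
    x ∈ Subgroup.normalizer ((fixer ρ H₀ : Subgroup G) : Set G) := by
  have h1 : ρ x * proj ρ H₀ = -proj ρ H₀ := by
    rw [rho_proj_eq_of_sph hS hreal (by norm_num) hx, neg_one_smul]
  have h2 : ρ x⁻¹ * proj ρ H₀ = -proj ρ H₀ := by
    have : ρ x⁻¹ * (ρ x * proj ρ H₀) = proj ρ H₀ := by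
      rw [← mul_assoc, ← map_mul, inv_mul_cancel, map_one, one_mul]
    rw [h1, mul_neg, neg_eq_iff_eq_neg] at this
    exact this
  rw [Subgroup.mem_normalizer_iff]
  intro h
  simp only [mem_fixer, map_mul]
  constructor
  · intro hh
    rw [mul_assoc, mul_assoc, h2, mul_neg, hh, mul_neg, h1, neg_neg]
  · intro hh
    rw [mul_assoc, mul_assoc, h2, mul_neg, mul_neg, neg_eq_iff_eq_neg, ← h1] at hh
    have := congrArg (ρ x⁻¹ * ·) hh
    simpa only [← mul_assoc, ← map_mul, inv_mul_cancel, inv_mul_cancel_left, map_one, one_mul] using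
      this

end Cfsg.Agent.M12Ord86
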